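import Groth.Agent.CohExtLib.Graph
import Groth.Agent.DefClassLib.Basic
import Groth.Agent.CohExtLib.Hom
import Groth.Agent.DevissLib.KilledImm
import Groth.Agent.QCohLib.Push
import Groth.Agent.QCohLib.Coherent
import Groth.Agent.SerreVanLib.Main

/-!
# Cohomology of coherent modules supported on a closed subscheme of small cohomological dimension
-/

set_option autoImplicit false
set_option linter.style.haveILetI false
set_option backward.isDefEq.respectTransparency false
set_option backward.isDefEq.respectTransparency.types false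

universe u

open CategoryTheory CategoryTheory.Limits AlgebraicGeometry TopologicalSpace Opposite
open CategoryTheory.Abelian
open FormalCohLib (quotK quotKπ)

noncomputable section

namespace SuppCdLib

variable {X : Scheme.{u}}

/-- The sheaf of abelian groups. -/
abbrev tA (X : Scheme.{u}) : X.Modules ⥤ QCohLib.AbSh X.toTopCat := QCohLib.toAbF X

section Generic

universe w v' u'

variable {C : Type u'} [Category.{v'} C] [Abelian C] [HasExt.{w} C] {A : C} {T : ShortComplex C}

theorem ext_mid (hT : T.ShortExact) {n : ℕ} (h₁ : Subsingleton (Ext A T.X₁ n))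
    (h₃ : Subsingleton (Ext A T.X₃ n)) : Subsingleton (Ext A T.X₂ n) :=
  subsingleton_of_forall_eq 0 fun x => by
    obtain ⟨z, rfl⟩ := Ext.covariant_sequence_exact₂ _ hT x (h₃.allEq _ _)
    rw [h₁.allEq z 0, Ext.zero_comp]

theorem ext_equiv_g (hT : T.ShortExact) {n : ℕ} (h₁ : Subsingleton (Ext A T.X₁ n))
    (h₂ : Subsingleton (Ext A T.X₁ (n + 1))) : Nonempty (Ext A T.X₂ n ≃+ Ext A T.X₃ n) := by
  refine ⟨AddEquiv.ofBijective ((Ext.mk₀ T.g).postcomp _ (add_zero n)) ⟨?_, fun z => ?_⟩⟩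
  · rw [injective_iff_map_eq_zero]
    intro y hy
    obtain ⟨w, hw⟩ := Ext.covariant_sequence_exact₂ _ hT y hy
    rw [← hw, h₁.allEq w 0, Ext.zero_comp]
  · exact Ext.covariant_sequence_exact₃ _ hT z rfl (h₂.allEq _ _)

theorem ext_equiv_f (hT : T.ShortExact) {n : ℕ} (h₁ : Subsingleton (Ext A T.X₃ n))
    (h₂ : Subsingleton (Ext A T.X₃ (n + 1))) : Nonempty (Ext A T.X₁ (n + 1) ≃+ Ext A T.X₂ (n + 1)) := by
  refine ⟨AddEquiv.ofBijective ((Ext.mk₀ T.f).postcomp _ (add_zero (n + 1))) ⟨?_, fun z => ?_⟩⟩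
  · rw [injective_iff_map_eq_zero]
    intro y hy
    obtain ⟨w, hw⟩ := Ext.covariant_sequence_exact₁ _ hT y hy rfl
    rw [← hw, h₁.allEq w 0, Ext.zero_comp]
  · exact Ext.covariant_sequence_exact₂ _ hT z (h₂.allEq _ _)

end Generic

theorem subsingleton_mid {S : ShortComplex X.Modules} (hS : S.ShortExact) {n : ℕ}
    (h₁ : Subsingleton (Coh.HH X S.X₁ n)) (h₃ : Subsingleton (Coh.HH X S.X₃ n)) :
    Subsingleton (Coh.HH X S.X₂ n) :=
  ext_mid.{u, u, u + 1} (QCohLib.toAbF_shortExact hS) h₁ h₃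

theorem bijective_g {S : ShortComplex X.Modules} (hS : S.ShortExact) {n : ℕ}
    (h₁ : Subsingleton (Coh.HH X S.X₁ n)) (h₂ : Subsingleton (Coh.HH X S.X₁ (n + 1))) :
    Nonempty (Coh.HH X S.X₂ n ≃+ Coh.HH X S.X₃ n) :=
  ext_equiv_g.{u, u, u + 1} (QCohLib.toAbF_shortExact hS) h₁ h₂

theorem bijective_f {S : ShortComplex X.Modules} (hS : S.ShortExact) {n : ℕ}
    (h₁ : Subsingleton (Coh.HH X S.X₃ n)) (h₂ : Subsingleton (Coh.HH X S.X₃ (n + 1))) :
    Nonempty (Coh.HH X S.X₁ (n + 1) ≃+ Coh.HH X S.X₂ (n + 1)) :=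
  ext_equiv_f.{u, u, u + 1} (QCohLib.toAbF_shortExact hS) h₁ h₂

variable [IsNoetherian X] {Z : Scheme.{u}} (ι : Z ⟶ X) [IsClosedImmersion ι] {m : ℕ}
  (hcd : ∀ G : Z.Modules, Coh.IsQCoh G → ∀ i : ℕ, m ≤ i → Subsingleton (Coh.HH Z G i))

include hcd in
theorem subsingleton_of_killed_pow : ∀ (N : ℕ) (Q : X.Modules), Coh.IsCoh Q →
    ClSub.KilledByIdeal (ι.ker ^ N) Q → ∀ i, m ≤ i → Subsingleton (Coh.HH X Q i) := by
  intro N
  induction N with
  | zero =>
    intro Q hQ hk i hi
    have hk' : ClSub.KilledByIdeal ι.ker Q := fun U a ha => hk U a (by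
      rw [CohExtLib.pow_ideal, pow_zero, Ideal.one_eq_top]; exact trivial)
    obtain ⟨G, hG, ⟨e⟩⟩ := DevissLib.exists_coh_of_killed ι hQ hk'
    haveI := hG.1
    obtain ⟨e'⟩ := QCohLib.nonempty_HH_push ι G i
    haveI := hcd G hG.1 i hi
    haveI : Subsingleton (Coh.HH X ((Coh.push ι).obj G) i) := e'.symm.toEquiv.subsingleton
    exact SerreVanLib.subsingleton_HH_of_iso e.symm i ‹_›
  | succ N ih =>
    intro Q hQ hk i hi
    haveI := hQ.1
    let J := ι.ker ^ N
    let A := (Dual3.idealMul J).obj Q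
    have hA : Coh.IsCoh A := CohExtLib.isCoh_idealMul J hQ
    haveI : Coh.IsQCoh ((quotK J).obj Q) := FormalCohLib.isQCoh_quotK J Q
    haveI : Epi (quotKπ J Q) := DefClassLib.epi_of_affines _ fun V => FormalCohLib.app_quotKπ_surjective J Q V.2
    have hB : Coh.IsCoh ((quotK J).obj Q) := ⟨inferInstance, QCohLib.isFT_of_epi (quotKπ J Q) hQ.2⟩
    have hkA : ClSub.KilledByIdeal ι.ker A := by
      intro U a ha w
      refine QCohLib.app_injective_of_mono (Dual3.idealMulι J Q) U.1 ?_
      rw [map_zero]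
      refine ((Dual3.idealMulι J Q).app_smul a w).trans ?_
      have hw := CohExtLib.app_idealMulι_mem J Q U.2 w
      rw [CohExtLib.pow_ideal] at hw
      have hle : ι.ker.ideal U • (ι.ker.ideal U ^ N • (⊤ : Submodule Γ(X, U.1) Γ(Q, U.1))) ≤ ⊥ := by
        rw [← Submodule.smul_assoc, smul_eq_mul, ← pow_succ']
        refine Submodule.smul_le.2 fun r hr q _ => ?_
        rw [Submodule.mem_bot]
        refine hk U r ?_ q
        rwa [CohExtLib.pow_ideal]
      exact (Submodule.mem_bot _).1 (hle (Submodule.smul_mem_smul ha hw))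
    have hkA' : ∀ j, m ≤ j → Subsingleton (Coh.HH X A j) := by
      intro j hj
      obtain ⟨G, hG, ⟨e⟩⟩ := DevissLib.exists_coh_of_killed ι hA hkA
      haveI := hG.1
      obtain ⟨e'⟩ := QCohLib.nonempty_HH_push ι G j
      haveI := hcd G hG.1 j hj
      haveI : Subsingleton (Coh.HH X ((Coh.push ι).obj G) j) := e'.symm.toEquiv.subsingleton
      exact SerreVanLib.subsingleton_HH_of_iso e.symm j ‹_›
    have hS : (ShortComplex.mk _ _ (CohExtLib.idealMulι_π J Q)).ShortExact :=
      { exact := ShortComplex.exact_of_f_is_kernel _ (kernelIsKernel _)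
        mono_f := Dual3.mono_idealMulι J Q
        epi_g := inferInstance }
    exact subsingleton_mid hS (hkA' i hi) (ih _ hB (FormalCohLib.killed_quotK J Q) i hi)

include hcd in
theorem subsingleton_of_support (Q : X.Modules) (hQ : Coh.IsCoh Q)
    (hs : CohB1.support Q ⊆ Set.range ι.base) (i : ℕ) (hi : m ≤ i) : Subsingleton (Coh.HH X Q i) := by
  obtain ⟨N, hN⟩ := CohExtLib.exists_killed_pow (I := ι.ker) hQ (by
    rw [Scheme.Hom.support_ker, ι.isClosedEmbedding.isClosed_range.closure_eq]; exact hs)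
  exact subsingleton_of_killed_pow ι hcd N Q hQ hN i hi

include hcd in
theorem nonempty_equiv_of_map {H F : X.Modules} (p : H ⟶ F) (hH : Coh.IsCoh H) (hF : Coh.IsCoh F)
    {U : X.Opens} (hU : (U : Set X) = (Set.range ι.base)ᶜ)
    [IsIso ((Scheme.Modules.restrictFunctor U.ι).map p)] {i : ℕ} (hi : m ≤ i) :
    Nonempty (Coh.HH X H (i + 1) ≃+ Coh.HH X F (i + 1)) := by
  haveI := hF.1
  haveI := hH.1
  have hK : Coh.IsCoh (kernel p) := QCohLib.isCoh_kernel p hH hF.1
  have hC : Coh.IsCoh (cokernel p) := QCohLib.isCoh_cokernel p hH.1 hF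
  have hUc : (U : Set X)ᶜ = Set.range ι.base := by rw [hU, compl_compl]
  have vK := fun j (hj : m ≤ j) => subsingleton_of_support ι hcd (kernel p) hK
    ((CohExtLib.support_kernel_subset p (U := U)).trans hUc.le) j hj
  have vC := fun j (hj : m ≤ j) => subsingleton_of_support ι hcd (cokernel p) hC
    ((CohExtLib.support_cokernel_subset p (U := U)).trans hUc.le) j hj
  let S₁ := ShortComplex.mk (kernel.ι p) (Abelian.factorThruImage p) (by
    rw [← cancel_mono (Abelian.image.ι p), Category.assoc, Abelian.image.fac, zero_comp, kernel.condition])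
  have hS₁ : S₁.ShortExact :=
    { exact := ShortComplex.exact_of_f_is_kernel _ (KernelFork.IsLimit.ofι _ _
        (fun g hg => kernel.lift p g (by rw [← Abelian.image.fac p, ← Category.assoc, hg, zero_comp]))
        (fun g hg => kernel.lift_ι _ _ _)
        (fun g hg l hl => by
          rw [← cancel_mono (kernel.ι p), kernel.lift_ι]
          exact hl))
      mono_f := inferInstance
      epi_g := inferInstance }
  let S₂ := ShortComplex.mk (Abelian.image.ι p) (cokernel.π p) (kernel.condition _)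
  have hS₂ : S₂.ShortExact :=
    { exact := ShortComplex.exact_of_f_is_kernel _ (kernelIsKernel _)
      mono_f := inferInstance
      epi_g := inferInstance }
  obtain ⟨e₁⟩ := bijective_g hS₁ (vK (i + 1) (by omega)) (vK (i + 1 + 1) (by omega))
  obtain ⟨e₂⟩ := bijective_f hS₂ (vC i hi) (vC (i + 1) (by omega))
  exact ⟨e₁.trans e₂⟩

end SuppCdLib
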